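import Groth.Agent.ResProp.EF.K926.RedFree
import Groth.Agent.ResProp.EF.K294.Defs
import Groth.Agent.Dcoh.KFlatSES
import Groth.Agent.Dcoh.KFlatZd
import Groth.Agent.Dcoh.HomColim
import Mathlib.CategoryTheory.Limits.Types.Filtered
import Mathlib.Algebra.Category.ModuleCat.FilteredColimits

/-!
# The functorial reduced free resolution as a cochain complex

`Res A : ModuleCat A ⥤ CM A` (degrees `≤ 0`, free terms, exact in degrees `< 0`, `aug M : Res M ⟶ M[0]` a
quasi-isomorphism, injective maps give degreewise split monomorphisms, directed unions give colimits).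
-/

set_option autoImplicit false

universe u

namespace Groth.Agent.ResProp.EF.K926

open CategoryTheory Category Limits MonoidalCategory HomologicalComplex
open Groth.Agent.ResProp.EF.K294 Groth.Agent.PerfB.RingKFlat
open Groth.Agent.Dcoh Groth.Agent.Dcoh.CxFun Groth.Agent.Dcoh.KFlatAbs Groth.Agent.Dcoh.KFlatSES

variable (A : Type u) [CommRing A]

/-- the functorial reduced free resolution, as a cochain complex -/
noncomputable def Res : ModuleCat.{u} A ⥤ CM A :=
  res₀ A ⋙ ComplexShape.embeddingDownNat.extendFunctor (ModuleCat.{u} A)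

variable {A}

/-- the terms of the resolution -/
noncomputable def resX (M : ModuleCat.{u} A) (n : ℕ) (i : ℤ) (h : -(n : ℤ) = i) :
    ((Res A).obj M).X i ≅ (KK A n ⋙ Fr A).obj M :=
  ((res₀ A).obj M).extendXIso ComplexShape.embeddingDownNat (i := n) (i' := i) h

lemma res_map_f {M N : ModuleCat.{u} A} (f : M ⟶ N) (n : ℕ) (i : ℤ) (h : -(n : ℤ) = i) :
    ((Res A).map f).f i = (resX M n i h).hom ≫ (KK A n ⋙ Fr A).map f ≫ (resX N n i h).inv :=
  extendMap_f ((res₀ A).map f) ComplexShape.embeddingDownNat (i := n) (i' := i) h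

lemma isZero_res_X (M : ModuleCat.{u} A) (i : ℤ) (h : 0 < i) : IsZero (((Res A).obj M).X i) :=
  isZero_extend_X _ _ _ (fun n hn => by
    have : -(n : ℤ) = i := hn
    omega)

instance isStrictlyLE_res (M : ModuleCat.{u} A) : ((Res A).obj M).IsStrictlyLE 0 := by
  rw [CochainComplex.isStrictlyLE_iff]
  intro i hi
  exact isZero_res_X M i hi

lemma exists_nat (i : ℤ) (h : i ≤ 0) : ∃ n : ℕ, -(n : ℤ) = i := ⟨(-i).toNat, by omega⟩

lemma projective_res_X (M : ModuleCat.{u} A) (i : ℤ) : Projective (((Res A).obj M).X i) := by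
  by_cases h : 0 < i
  · exact ⟨fun _ _ => ⟨0, (isZero_res_X M i h).eq_of_src _ _⟩⟩
  · obtain ⟨n, hn⟩ := exists_nat i (not_lt.1 h)
    exact Projective.of_iso (resX M n i hn).symm (inferInstanceAs (Projective ((Fr A).obj ((KK A n).obj M))))

lemma flat_of_projective (M : ModuleCat.{u} A) (h : Projective M) : Module.Flat A M := by
  have : Module.Projective A M := (IsProjective.iff_projective M).2 h
  infer_instance

lemma flat_res_X (M : ModuleCat.{u} A) (i : ℤ) : Module.Flat A (((Res A).obj M).X i) :=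
  flat_of_projective _ (projective_res_X M i)

lemma res_exactAt (M : ModuleCat.{u} A) (i : ℤ) (h : i < 0) : ((Res A).obj M).ExactAt i := by
  obtain ⟨n, hn⟩ := exists_nat i h.le
  obtain ⟨m, rfl⟩ : ∃ m, n = m + 1 := ⟨n - 1, by omega⟩
  exact (extend_exactAt_iff _ ComplexShape.embeddingDownNat hn).2 (res₀_exactAt A M m)

/-- the augmentation `Fr M ⟶ M`, in degree `0` of the resolution -/
noncomputable def prj0 (M : ModuleCat.{u} A) : (KK A 0 ⋙ Fr A).obj M ⟶ M := (prj A).app M

lemma dd_prj0 (M : ModuleCat.{u} A) : (dd A 0).app M ≫ prj0 M = 0 := DD_prj A M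

lemma prj0_nat {M N : ModuleCat.{u} A} (f : M ⟶ N) :
    (KK A 0 ⋙ Fr A).map f ≫ prj0 N = prj0 M ≫ f := (prj A).naturality f

lemma res_d (M : ModuleCat.{u} A) :
    ((Res A).obj M).d (-1) 0 = (resX M 1 (-1) rfl).hom ≫ (dd A 0).app M ≫ (resX M 0 0 rfl).inv := by
  refine (((res₀ A).obj M).extend_d_eq ComplexShape.embeddingDownNat (i := 1) (j := 0) (i' := -1) (j' := 0)
    rfl rfl).trans ?_
  rw [show ((res₀ A).obj M).d 1 0 = (dd A 0).app M from resObj_d A M 0]
  rfl

lemma res_d_aug (M : ModuleCat.{u} A) : ((Res A).obj M).d (-1) 0 ≫ (resX M 0 0 rfl).hom ≫ prj0 M = 0 := by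
  rw [res_d]
  simp only [Category.assoc, Iso.inv_hom_id_assoc, dd_prj0, comp_zero]

/-- the augmentation -/
noncomputable def aug (M : ModuleCat.{u} A) :
    (Res A).obj M ⟶ (single (ModuleCat.{u} A) (ComplexShape.up ℤ) 0).obj M :=
  mkHomToSingle ((resX M 0 0 rfl).hom ≫ prj0 M) (by
    intro i hi
    obtain rfl : i = -1 := by
      have : i + 1 = 0 := hi
      omega
    exact res_d_aug M)

lemma aug_f (M : ModuleCat.{u} A) : (aug M).f 0 = ((resX M 0 0 rfl).hom ≫ prj0 M) ≫
    (singleObjXSelf (ComplexShape.up ℤ) 0 M).inv := mkHomToSingle_f _ _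

lemma aug_nat {M N : ModuleCat.{u} A} (f : M ⟶ N) :
    (Res A).map f ≫ aug N = aug M ≫ (single (ModuleCat.{u} A) (ComplexShape.up ℤ) 0).map f := by
  refine HomologicalComplex.hom_ext _ _ (fun i => ?_)
  by_cases hi : i = 0
  · subst hi
    rw [comp_f, comp_f, aug_f, aug_f, res_map_f f 0 0 rfl, single_map_f_self]
    simp only [Category.assoc, Iso.inv_hom_id_assoc]
    rw [← Category.assoc ((KK A 0 ⋙ Fr A).map f), prj0_nat, Category.assoc]
  · exact (isZero_single_obj_X _ _ _ _ hi).eq_of_tgt _ _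

lemma prj0_surjective (M : ModuleCat.{u} A) : Function.Surjective (prj0 M).hom := prj_surjective A M

lemma quasiIso_aug (M : ModuleCat.{u} A) : QuasiIso (aug M) := by
  rw [quasiIso_iff]
  intro i
  by_cases hi : i = 0
  · subst hi
    rw [quasiIsoAt_iff' _ (-1) 0 1 (by simp) (by simp)]
    rw [ShortComplex.quasiIso_iff_of_zeros']
    rotate_left
    · exact (isZero_res_X M 1 (by omega)).eq_of_tgt _ _
    · exact (isZero_single_obj_X (ComplexShape.up ℤ) 0 M (-1) (by omega)).eq_of_src _ _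
    · exact (isZero_single_obj_X (ComplexShape.up ℤ) 0 M 1 (by omega)).eq_of_tgt _ _
    have hepi : Epi ((aug M).f 0) := by
      rw [aug_f]
      have : Epi (prj0 M) := (ModuleCat.epi_iff_surjective _).2 (prj0_surjective M)
      infer_instance
    refine ⟨?_, hepi⟩
    rw [ShortComplex.moduleCat_exact_iff]
    intro x hx
    change ((Res A).obj M).X 0 at x
    have hx' : (prj0 M).hom ((resX M 0 0 rfl).hom.hom x) = 0 := by
      have h1 : ((aug M).f 0).hom x = 0 := hx
      rw [aug_f] at h1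
      have h2 : (singleObjXSelf (ComplexShape.up ℤ) 0 M).inv.hom
        ((prj0 M).hom ((resX M 0 0 rfl).hom.hom x)) = 0 := h1
      have h3 := congrArg (singleObjXSelf (ComplexShape.up ℤ) 0 M).hom.hom h2
      rw [map_zero] at h3
      rw [← h3]
      exact (LinearMap.congr_fun (congrArg ModuleCat.Hom.hom
        (singleObjXSelf (ComplexShape.up ℤ) 0 M).inv_hom_id) _).symm
    obtain ⟨y, hy⟩ := DD_exact A M _ hx'
    refine ⟨(resX M 1 (-1) rfl).inv.hom y, ?_⟩
    change (((Res A).obj M).d (-1) 0).hom ((resX M 1 (-1) rfl).inv.hom y) = x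
    rw [res_d]
    have h4 : (resX M 1 (-1) rfl).hom.hom ((resX M 1 (-1) rfl).inv.hom y) = y :=
      LinearMap.congr_fun (congrArg ModuleCat.Hom.hom (resX M 1 (-1) rfl).inv_hom_id) _
    have h5 : (resX M 0 0 rfl).inv.hom ((resX M 0 0 rfl).hom.hom x) = x :=
      LinearMap.congr_fun (congrArg ModuleCat.Hom.hom (resX M 0 0 rfl).hom_inv_id) _
    change (resX M 0 0 rfl).inv.hom (((dd A 0).app M).hom ((resX M 1 (-1) rfl).hom.hom
      ((resX M 1 (-1) rfl).inv.hom y))) = x
    rw [h4]
    exact (congrArg (resX M 0 0 rfl).inv.hom hy).trans h5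
  · rw [quasiIsoAt_iff_exactAt]
    · exact ExactAt.of_isZero (isZero_single_obj_X _ _ _ _ hi)
    · rcases lt_or_gt_of_ne hi with h | h
      · exact res_exactAt M i h
      · exact ExactAt.of_isZero (isZero_res_X M i h)

/-- injective maps induce degreewise split monomorphisms. -/
lemma res_split {M N : ModuleCat.{u} A} (f : M ⟶ N) (hf : Function.Injective f.hom) (i : ℤ) :
    ∃ r : ((Res A).obj N).X i ⟶ ((Res A).obj M).X i, ((Res A).map f).f i ≫ r = 𝟙 _ := by
  by_cases h : 0 < i
  · exact ⟨0, (isZero_res_X M i h).eq_of_src _ _⟩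
  · obtain ⟨n, hn⟩ := exists_nat i (not_lt.1 h)
    obtain ⟨r, hr⟩ := Fr_map_split A ((KK A n).map f) (pinj_KK A n f hf)
    refine ⟨(resX N n i hn).hom ≫ r ≫ (resX M n i hn).inv, ?_⟩
    rw [res_map_f f n i hn]
    have hr' : (KK A n ⋙ Fr A).map f ≫ r = 𝟙 _ := hr
    simp only [Category.assoc, Iso.inv_hom_id_assoc]
    rw [← Category.assoc ((KK A n ⋙ Fr A).map f), hr']
    erw [Category.id_comp]
    exact (resX M n i hn).hom_inv_id

lemma Fr_map_zero (M N : ModuleCat.{u} A) : (Fr A).map (0 : M ⟶ N) = 0 := by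
  refine ModuleCat.hom_ext (rf_hom_ext A fun m => ?_)
  refine (rmap_br A _ (map_zero (0 : M ⟶ N).hom) m).trans ?_
  exact br_zero A

lemma Kr_map_zero (M N : ModuleCat.{u} A) : (Kr A).map (0 : M ⟶ N) = 0 := by
  refine ModuleCat.hom_ext (LinearMap.ext fun x => ?_)
  apply inc_injective A N
  rw [Kr_map_val, Fr_map_zero]
  rfl

lemma KK_map_zero (n : ℕ) (M N : ModuleCat.{u} A) : (KK A n).map (0 : M ⟶ N) = 0 := by
  induction n with
  | zero => rfl
  | succ n hn =>
    change (Kr A).map ((KK A n).map (0 : M ⟶ N)) = 0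
    rw [hn, Kr_map_zero]

lemma res_map_zero (M N : ModuleCat.{u} A) : (Res A).map (0 : M ⟶ N) = 0 := by
  refine HomologicalComplex.hom_ext _ _ (fun i => ?_)
  by_cases h : 0 < i
  · exact (isZero_res_X M i h).eq_of_src _ _
  · obtain ⟨n, hn⟩ := exists_nat i (not_lt.1 h)
    rw [res_map_f _ n i hn]
    have h1 : (KK A n ⋙ Fr A).map (0 : M ⟶ N) = 0 := by
      change (Fr A).map ((KK A n).map (0 : M ⟶ N)) = 0
      rw [KK_map_zero, Fr_map_zero]
    rw [h1, zero_comp, comp_zero]
    rfl

instance res_preservesZeroMorphisms : (Res A).PreservesZeroMorphisms where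
  map_zero M N := res_map_zero M N

end Groth.Agent.ResProp.EF.K926
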