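import Groth.Agent.ResProp.EF.K926.Union
import Groth.Agent.ResProp.EF.K894.LL
import Mathlib.Algebra.Homology.DerivedCategory.KProjective

/-!
# `H^j(K ⊗ Res M)` as a `K894.TorFam`

`hT j M : CM A ⥤ ModuleCat A`, `K ↦ H^j(K ⊗ Res M)`; `torFam : TorFam (CM A) A A`; `torFamComp V` its pull back
along a functor `V : D ⥤ CM A`.
-/

set_option autoImplicit false

universe v t u

namespace Groth.Agent.ResProp.EF.K926

open CategoryTheory Category Limits MonoidalCategory HomologicalComplex
open Groth.Agent.ResProp.EF.K294 Groth.Agent.PerfB.RingKFlat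
open Groth.Agent.Dcoh Groth.Agent.Dcoh.CxFun Groth.Agent.Dcoh.KFlatAbs Groth.Agent.Dcoh.KFlatSES

variable {A : Type u} [CommRing A]

/-! ### homotopy equivalences -/

/-- quasi-isomorphisms between bounded above complexes of projectives are homotopy equivalences. -/
theorem htpy_of_quasiIso {L L' : CM A} (b : ℤ) [L.IsStrictlyLE b] [L'.IsStrictlyLE b]
    (hL : ∀ n, Projective (L.X n)) (hL' : ∀ n, Projective (L'.X n)) (φ : L ⟶ L') [QuasiIso φ] :
    homotopyEquivalences (ModuleCat.{u} A) (ComplexShape.up ℤ) φ := by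
  have h1 : L.IsKProjective := CochainComplex.isKProjective_of_projective L b
  have h2 : L'.IsKProjective := CochainComplex.isKProjective_of_projective L' b
  exact (CochainComplex.IsKProjective.quasiIso_iff φ).1 inferInstance

/-- `HtpyFunctor`s preserve homotopy equivalences; here: they become quasi-isomorphisms. -/
theorem quasiIso_map_of_htpy (G : CM A ⥤ CM A) [HtpyFunctor G] {L L' : CM A} (φ : L ⟶ L')
    (h : homotopyEquivalences (ModuleCat.{u} A) (ComplexShape.up ℤ) φ) : QuasiIso (G.map φ) := by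
  obtain ⟨e, rfl⟩ := h
  have h1 := (HtpyFunctor.homotopy G e.homotopyHomInvId).some
  have h2 := (HtpyFunctor.homotopy G e.homotopyInvHomId).some
  let e' : HomotopyEquiv (G.obj L) (G.obj L') :=
    { hom := G.map e.hom
      inv := G.map e.inv
      homotopyHomInvId := by
        rwa [G.map_comp, G.map_id] at h1
      homotopyInvHomId := by
        rwa [G.map_comp, G.map_id] at h2 }
  exact e'.quasiIso_hom

theorem quasiIso_tens {L L' : CM A} (b : ℤ) [L.IsStrictlyLE b] [L'.IsStrictlyLE b]
    (hL : ∀ n, Projective (L.X n)) (hL' : ∀ n, Projective (L'.X n)) (φ : L ⟶ L') [QuasiIso φ] (K : CM A) :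
    QuasiIso (((TR A).map₂CochainComplex.obj K).map φ) :=
  quasiIso_map_of_htpy ((TR A).map₂CochainComplex.obj K) φ (htpy_of_quasiIso b hL hL' φ)

/-! ### the short exact sequence of resolutions -/

section SES

variable {N₁ N₂ N₃ : ModuleCat.{u} A} (f : N₁ ⟶ N₂) (g : N₂ ⟶ N₃) (w : f ≫ g = 0)

/-- `Res N₁ ⟶ Res N₂ ⟶ coker` -/
noncomputable def SR : ShortComplex (CM A) :=
  ShortComplex.mk ((Res A).map f) (cokernel.π ((Res A).map f)) (cokernel.condition _)

variable {f} in
lemma mono_res_map_f (hf : Function.Injective f.hom) (i : ℤ) : Mono (((Res A).map f).f i) := by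
  obtain ⟨r, hr⟩ := res_split f hf i
  exact (SplitMono.mk r hr).mono

variable {f} in
lemma mono_res_map (hf : Function.Injective f.hom) : Mono ((Res A).map f) := by
  exact HomologicalComplex.mono_of_mono_f ((Res A).map f) (mono_res_map_f hf)

variable {f} in
lemma SR_shortExact (hf : Function.Injective f.hom) : (SR f).ShortExact where
  exact := ShortComplex.exact_cokernel _
  mono_f := mono_res_map hf
  epi_g := inferInstanceAs (Epi (cokernel.π ((Res A).map f)))

variable {f} in
lemma SR_split (hf : Function.Injective f.hom) (i : ℤ) :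
    Nonempty ((SR f).map (eval (ModuleCat.{u} A) (ComplexShape.up ℤ) i)).Splitting := by
  obtain ⟨r, hr⟩ := res_split f hf i
  have h := (SR_shortExact hf).map_of_exact (eval (ModuleCat.{u} A) (ComplexShape.up ℤ) i)
  have := h.epi_g
  exact ⟨ShortComplex.Splitting.ofExactOfRetraction _ h.exact r hr this⟩

variable {f} in
lemma SR_projective (hf : Function.Injective f.hom) (i : ℤ) : Projective ((SR f).X₃.X i) := by
  obtain ⟨σ⟩ := SR_split hf i
  have h1 : Projective ((SR f).X₂.X i) := projective_res_X N₂ i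
  let s' : (SR f).X₃.X i ⟶ (SR f).X₂.X i := σ.s
  have h2 : s' ≫ (SR f).g.f i = 𝟙 ((SR f).X₃.X i) := σ.s_g
  refine ⟨fun {E X} φ e _ => ⟨s' ≫ Projective.factorThru ((SR f).g.f i ≫ φ) e, ?_⟩⟩
  rw [Category.assoc, Projective.factorThru_comp, ← Category.assoc]
  exact (congrArg (· ≫ φ) h2).trans (Category.id_comp φ)

variable {f} in
lemma SR_isStrictlyLE (hf : Function.Injective f.hom) : (SR f).X₃.IsStrictlyLE 0 := by
  rw [CochainComplex.isStrictlyLE_iff]
  intro i hi
  obtain ⟨σ⟩ := SR_split hf i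
  have h1 : IsZero ((SR f).X₂.X i) := isZero_res_X N₂ i hi
  rw [IsZero.iff_id_eq_zero]
  have h2 : σ.s ≫ (SR f).g.f i = 𝟙 ((SR f).X₃.X i) := σ.s_g
  have h3 : σ.s = 0 := h1.eq_of_tgt _ _
  rw [← h2, h3]
  exact zero_comp

variable {f} in
lemma SR_tens (hf : Function.Injective f.hom) (K : CM A) :
    ((SR f).map ((TR A).map₂CochainComplex.obj K)).ShortExact :=
  shortExact_map (TR A) K _ (fun p q => by
    obtain ⟨σ⟩ := SR_split hf q
    exact (σ.map ((TR A).obj (K.X p))).shortExact)

/-- the comparison `coker ⟶ Res N₃` -/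
noncomputable def cmpT : (SR f).X₃ ⟶ (Res A).obj N₃ :=
  cokernel.desc ((Res A).map f) ((Res A).map g) (by rw [← Functor.map_comp, w, Functor.map_zero])

lemma g_cmpT : (SR f).g ≫ cmpT f g w = (Res A).map g := cokernel.π_desc _ _ _

lemma quasiIso_cmpT (h : (ShortComplex.mk f g w).ShortExact) (hf : Function.Injective f.hom) :
    QuasiIso (cmpT f g w) := by
  let Φ := single (ModuleCat.{u} A) (ComplexShape.up ℤ) 0
  have h2 : ((ShortComplex.mk f g w).map Φ).ShortExact := h.map_of_exact Φ
  let τ : SR f ⟶ (ShortComplex.mk f g w).map Φ :=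
    { τ₁ := aug N₁
      τ₂ := aug N₂
      τ₃ := cmpT f g w ≫ aug N₃
      comm₁₂ := (aug_nat f).symm
      comm₂₃ := by
        have h3 := aug_nat g
        have h4 : (SR f).g ≫ cmpT f g w ≫ aug N₃ = (Res A).map g ≫ aug N₃ :=
          (Category.assoc _ _ _).symm.trans (congrArg (· ≫ aug N₃) (g_cmpT f g w))
        exact (h4.trans h3).symm }
  have h3 : QuasiIso (cmpT f g w ≫ aug N₃) :=
    HomologicalComplex.HomologySequence.quasiIso_τ₃ τ (SR_shortExact hf) h2 (quasiIso_aug N₁) (quasiIso_aug N₂)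
  have h4 := quasiIso_aug N₃
  exact quasiIso_of_comp_right (cmpT f g w) (aug N₃)

lemma quasiIso_tens_cmpT (h : (ShortComplex.mk f g w).ShortExact) (hf : Function.Injective f.hom) (K : CM A) :
    QuasiIso (((TR A).map₂CochainComplex.obj K).map (cmpT f g w)) := by
  have h1 := quasiIso_cmpT f g w h hf
  have h2 := SR_isStrictlyLE (f := f) hf
  exact quasiIso_tens 0 (SR_projective hf) (projective_res_X N₃) (cmpT f g w) K

end SES

/-! ### the family -/

/-- `K ↦ H^j(K ⊗ Res M)` -/
noncomputable def hT (j : ℤ) (M : ModuleCat.{u} A) : CM A ⥤ ModuleCat.{u} A :=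
  (TR A).map₂CochainComplex.flip.obj ((Res A).obj M) ⋙ homologyFunctor _ _ j

/-- functoriality in the coefficients -/
noncomputable def hTmap (j : ℤ) {M N : ModuleCat.{u} A} (f : M ⟶ N) : hT j M ⟶ hT j N :=
  Functor.whiskerRight ((TR A).map₂CochainComplex.flip.map ((Res A).map f)) _

lemma hTmap_app (j : ℤ) {M N : ModuleCat.{u} A} (f : M ⟶ N) (K : CM A) :
    (hTmap j f).app K = homologyMap (((TR A).map₂CochainComplex.obj K).map ((Res A).map f)) j := rfl

section

variable {N₁ N₂ N₃ : ModuleCat.{u} A} (f : N₁ ⟶ N₂) (g : N₂ ⟶ N₃) (w : f ≫ g = 0)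
  (h : (ShortComplex.mk f g w).ShortExact) (hf : Function.Injective f.hom)

include h hf in
theorem hT_mid (j : ℤ) : K894.Mid (hTmap j f) (hTmap j g) := by
  intro K y hy
  have h1 := (SR_tens (f := f) hf K).homology_exact₂ j
  have h2 := quasiIso_tens_cmpT f g w h hf K
  have h3 : IsIso (homologyMap (((TR A).map₂CochainComplex.obj K).map (cmpT f g w)) j) := inferInstance
  have h4 : homologyMap (((TR A).map₂CochainComplex.obj K).map (SR f).g) j ≫
      homologyMap (((TR A).map₂CochainComplex.obj K).map (cmpT f g w)) j = (hTmap j g).app K := by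
    rw [← homologyMap_comp, ← Functor.map_comp, g_cmpT, hTmap_app]
    rfl
  have h5 : (homologyMap (((TR A).map₂CochainComplex.obj K).map (SR f).g) j).hom y = 0 := by
    have h6 : Function.Injective
        (homologyMap (((TR A).map₂CochainComplex.obj K).map (cmpT f g w)) j).hom :=
      (ModuleCat.mono_iff_injective _).1 inferInstance
    apply h6
    exact (congrArg (fun φ => φ.hom y) h4).trans (hy.trans
      (map_zero (homologyMap (((TR A).map₂CochainComplex.obj K).map (cmpT f g w)) j).hom).symm)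
  exact (ShortComplex.moduleCat_exact_iff _).1 h1 y h5

/-- the short exact sequences are natural in `K` -/
noncomputable def SRmap {K K' : CM A} (α : K ⟶ K') :
    (SR f).map ((TR A).map₂CochainComplex.obj K) ⟶ (SR f).map ((TR A).map₂CochainComplex.obj K') :=
  (SR f).mapNatTrans ((TR A).map₂CochainComplex.map α)

/-- the isomorphism `H^j(K ⊗ coker) ≅ H^j(K ⊗ Res N₃)` -/
noncomputable def cmpIso (j : ℤ) (K : CM A) :
    (((TR A).map₂CochainComplex.obj K).obj (SR f).X₃).homology j ≅ (hT j N₃).obj K :=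
  have := quasiIso_tens_cmpT f g w h hf K
  isoOfQuasiIsoAt (((TR A).map₂CochainComplex.obj K).map (cmpT f g w)) j

lemma cmpIso_nat (j : ℤ) {K K' : CM A} (α : K ⟶ K') :
    homologyMap (((TR A).map₂CochainComplex.map α).app (SR f).X₃) j ≫ (cmpIso f g w h hf j K').hom =
      (cmpIso f g w h hf j K).hom ≫ (hT j N₃).map α := by
  change homologyMap _ j ≫ homologyMap _ j = homologyMap _ j ≫ homologyMap _ j
  rw [← homologyMap_comp, ← homologyMap_comp]
  congr 1
  exact (((TR A).map₂CochainComplex.map α).naturality (cmpT f g w)).symm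

omit h in
/-- the connecting morphism of the short exact sequence of complexes -/
noncomputable def dT (j : ℤ) (K : CM A) :
    (((TR A).map₂CochainComplex.obj K).obj (SR f).X₃).homology j ⟶ (hT (j + 1) N₁).obj K :=
  (SR_tens (f := f) hf K).δ j (j + 1) (by simp)

omit h in
lemma dT_nat (j : ℤ) {K K' : CM A} (α : K ⟶ K') :
    dT f hf j K ≫ (hT (j + 1) N₁).map α =
      homologyMap (((TR A).map₂CochainComplex.map α).app (SR f).X₃) j ≫ dT f hf j K' :=
  HomologicalComplex.HomologySequence.δ_naturality (SRmap f α) (SR_tens (f := f) hf K)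
      (SR_tens (f := f) hf K') j (j + 1) (by simp)

/-- the connecting morphism, natural in `K` -/
noncomputable def hTδ (j : ℤ) : hT j N₃ ⟶ hT (j + 1) N₁ where
  app K := (cmpIso f g w h hf j K).inv ≫ dT f hf j K
  naturality {K K' : CM A} α := by
    have h1 := cmpIso_nat f g w h hf j α
    have h4 : (hT j N₃).map α ≫ (cmpIso f g w h hf j K').inv =
      (cmpIso f g w h hf j K).inv ≫ homologyMap (((TR A).map₂CochainComplex.map α).app (SR f).X₃) j := by
      rw [Iso.comp_inv_eq, Category.assoc, h1, Iso.inv_hom_id_assoc]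
    rw [← Category.assoc, h4, Category.assoc, Category.assoc, dT_nat]

theorem hT_conn (j : ℤ) : K894.Mid (hTδ f g w h hf j) (hTmap (j + 1) f) := by
  intro K y hy
  have h1 := (SR_tens (f := f) hf K).homology_exact₁ j (j + 1) (by simp)
  obtain ⟨x, hx⟩ := (ShortComplex.moduleCat_exact_iff _).1 h1 y hy
  refine ⟨(cmpIso f g w h hf j K).hom.hom x, ?_⟩
  have h2 : (cmpIso f g w h hf j K).hom ≫ (hTδ f g w h hf j).app K = dT f hf j K := by
    change (cmpIso f g w h hf j K).hom ≫ (cmpIso f g w h hf j K).inv ≫ dT f hf j K = dT f hf j K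
    rw [Iso.hom_inv_id_assoc]
  exact (congrArg (fun φ => φ.hom x) h2).trans hx

end

/-- `H^j(K ⊗ Res 0) = 0` -/
lemma isZero_hT (j : ℤ) (M : ModuleCat.{u} A) (hM : IsZero M) (K : CM A) : IsZero ((hT j M).obj K) := by
  have h1 : IsZero ((Res A).obj M) := (Res A).map_isZero hM
  have h2 : IsZero (((TR A).map₂CochainComplex.obj K).obj ((Res A).obj M)) :=
    ((TR A).map₂CochainComplex.obj K).map_isZero h1
  exact (homologyFunctor (ModuleCat.{u} A) (ComplexShape.up ℤ) j).map_isZero h2

lemma shortExact_of {N₁ N₂ N₃ : Type u} [AddCommGroup N₁] [AddCommGroup N₂]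
    [AddCommGroup N₃] [Module A N₁] [Module A N₂] [Module A N₃] (f : N₁ →ₗ[A] N₂) (g : N₂ →ₗ[A] N₃)
    (hf : Function.Injective f) (hg : Function.Surjective g) (hfg : Function.Exact f g) :
    (ShortComplex.mk (ModuleCat.ofHom f) (ModuleCat.ofHom g) (ModuleCat.hom_ext hfg.linearMap_comp_eq_zero)).ShortExact where
  exact := (ShortComplex.ShortExact.moduleCat_exact_iff_function_exact _).2 hfg
  mono_f := (ModuleCat.mono_iff_injective _).2 hf
  epi_g := (ModuleCat.epi_iff_surjective _).2 hg

/-- **The family `H^j(K ⊗ Res M)`** (node R): input of `K894.TorFam.stab` and `K894.TorFam.self`. -/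
noncomputable def torFam (A : Type u) [CommRing A] : K894.TorFam.{u, u} (CM A) A A where
  h j N _ _ := hT j (ModuleCat.of A N)
  map j _ _ _ _ _ _ f := hTmap j (ModuleCat.ofHom f)
  mid j _ _ _ _ _ _ _ _ _ f g hf hg hfg :=
    hT_mid (ModuleCat.ofHom f) (ModuleCat.ofHom g) _ (shortExact_of f g hf hg hfg) hf j
  conn j _ _ _ _ _ _ _ _ _ f g hf hg hfg :=
    ⟨hTδ (ModuleCat.ofHom f) (ModuleCat.ofHom g) _ (shortExact_of f g hf hg hfg) hf j,
      hT_conn (ModuleCat.ofHom f) (ModuleCat.ofHom g) _ (shortExact_of f g hf hg hfg) hf j⟩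
  union j N _ _ ι _ F hd hs K y := union_surj (N := ModuleCat.of A N) F hd hs K j y
  zero j K y := by
    have h1 : IsZero (ModuleCat.of A PUnit.{u + 1}) := ModuleCat.isZero_of_subsingleton _
    have := ModuleCat.subsingleton_of_isZero (isZero_hT j _ h1 K)
    exact Subsingleton.elim y 0

/-- pull back of a family along a functor -/
noncomputable def comapFam {D : Type t} [Category.{v} D] {E : Type*} [Category E] (V : D ⥤ E)
    (T : K894.TorFam.{u, u} E A A) : K894.TorFam.{u, u} D A A where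
  h j N _ _ := V ⋙ T.h j N
  map j _ _ _ _ _ _ f := Functor.whiskerLeft V (T.map j f)
  mid j _ _ _ _ _ _ _ _ _ f g hf hg hfg Y y hy := T.mid j f g hf hg hfg (V.obj Y) y hy
  conn j _ _ _ _ _ _ _ _ _ f g hf hg hfg := by
    obtain ⟨δ, hδ⟩ := T.conn j f g hf hg hfg
    exact ⟨Functor.whiskerLeft V δ, fun Y y hy => hδ (V.obj Y) y hy⟩
  union j N _ _ ι _ F hd hs Y y := T.union j N ι F hd hs (V.obj Y) y
  zero j Y y := T.zero j (V.obj Y) y

/-- `Y ↦ H^j(V Y ⊗ Res M)` -/
noncomputable def torFamOn {D : Type t} [Category.{v} D] (V : D ⥤ CM A) : K894.TorFam.{u, u} D A A :=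
  comapFam V (torFam A)

lemma torFamOn_h {D : Type t} [Category.{v} D] (V : D ⥤ CM A) (j : ℤ) (N : Type u) [AddCommGroup N]
    [Module A N] : (torFamOn V).h j N = V ⋙ hT j (ModuleCat.of A N) := rfl

end Groth.Agent.ResProp.EF.K926
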