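import Groth.Agent.ResProp.EF.K926.Res

/-!
# Directed unions of modules as colimits; `Res`, `tens K (Res -)` and its homology preserve them
-/

set_option autoImplicit false

universe u

namespace Groth.Agent.ResProp.EF.K926

open CategoryTheory Category Limits MonoidalCategory HomologicalComplex
open Groth.Agent.ResProp.EF.K294 Groth.Agent.PerfB.RingKFlat
open Groth.Agent.Dcoh Groth.Agent.Dcoh.CxFun Groth.Agent.Dcoh.KFlatAbs Groth.Agent.Dcoh.KFlatSES

variable {A : Type u} [CommRing A]

/-- the index category of a directed union -/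
structure UIdx {N : ModuleCat.{u} A} {ι : Type u} (_F : ι → Submodule A N) : Type u where
  /-- the index -/
  val : ι

section

variable {N : ModuleCat.{u} A} {ι : Type u} (F : ι → Submodule A N)

instance : Preorder (UIdx F) := Preorder.lift (fun i : UIdx F => F i.val)

lemma isDirected_uidx (hd : Directed (· ≤ ·) F) : IsDirected (UIdx F) (· ≤ ·) :=
  ⟨fun i j => by
    obtain ⟨k, h1, h2⟩ := hd i.val j.val
    exact ⟨⟨k⟩, h1, h2⟩⟩

instance [Nonempty ι] : Nonempty (UIdx F) := ⟨⟨Classical.arbitrary ι⟩⟩

lemma isFiltered_uidx [Nonempty ι] (hd : Directed (· ≤ ·) F) : IsFiltered (UIdx F) := by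
  have := isDirected_uidx F hd
  infer_instance

/-- the diagram of a union -/
noncomputable def ufun : UIdx F ⥤ ModuleCat.{u} A where
  obj i := ModuleCat.of A (F i.val)
  map {i j} h := ModuleCat.ofHom (Submodule.inclusion (show F i.val ≤ F j.val from leOfHom h))
  map_id _ := rfl
  map_comp _ _ := rfl

/-- the cocone of a union -/
noncomputable def ucc : Cocone (ufun F) where
  pt := N
  ι := { app := fun i => ModuleCat.ofHom (F i.val).subtype
         naturality := fun _ _ _ => rfl }

/-- functors which preserve injections and are jointly surjective on directed unions preserve them. -/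
noncomputable def isColimitOfJS [Nonempty ι] (hd : Directed (· ≤ ·) F) (hs : (⨆ i, F i) = ⊤)
    (Φ : ModuleCat.{u} A ⥤ ModuleCat.{u} A) (h : PInj A Φ) (h' : JS A Φ) : IsColimit (Φ.mapCocone (ucc F)) := by
  have := isFiltered_uidx F hd
  have : ReflectsColimitsOfShape (UIdx F) (forget (ModuleCat.{u} A)) :=
    reflectsColimitsOfShape_of_reflectsIsomorphisms
  refine isColimitOfReflects (forget (ModuleCat.{u} A)) ?_
  refine Types.FilteredColimit.isColimitOf' _ _ ?_ ?_
  · intro x
    obtain ⟨i, y, hy⟩ := h' N ι F hd hs x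
    exact ⟨⟨i⟩, y, hy.symm⟩
  · intro i x y hxy
    exact ⟨i, 𝟙 _, congrArg _ (h (ModuleCat.ofHom (F i.val).subtype) Subtype.val_injective hxy)⟩

end

lemma pinj_res (i : ℤ) : PInj A (Res A ⋙ eval _ _ i) := by
  intro M N f hf
  obtain ⟨r, hr⟩ := res_split f hf i
  refine Function.LeftInverse.injective (g := r.hom) (fun x => ?_)
  exact LinearMap.congr_fun (congrArg ModuleCat.Hom.hom hr) x

lemma js_res (i : ℤ) : JS A (Res A ⋙ eval _ _ i) := by
  intro N ι _ F hd hs y
  by_cases h : 0 < i
  · refine ⟨Classical.arbitrary ι, 0, ?_⟩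
    rw [map_zero]
    have := ModuleCat.subsingleton_of_isZero (isZero_res_X N i h)
    exact Subsingleton.elim (α := ((Res A).obj N).X i) _ _
  · obtain ⟨n, hn⟩ := exists_nat i (not_lt.1 h)
    obtain ⟨k, x, hx⟩ := js_KKFr A n N ι F hd hs ((resX N n i hn).hom.hom y)
    refine ⟨k, (resX (ModuleCat.of A (F k)) n i hn).inv.hom x, ?_⟩
    change (((Res A).map (ModuleCat.ofHom (F k).subtype)).f i).hom
      ((resX (ModuleCat.of A (F k)) n i hn).inv.hom x) = y
    rw [res_map_f _ n i hn]
    have h1 : (resX (ModuleCat.of A (F k)) n i hn).hom.hom ((resX (ModuleCat.of A (F k)) n i hn).inv.hom x) = x :=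
      LinearMap.congr_fun (congrArg ModuleCat.Hom.hom (resX (ModuleCat.of A (F k)) n i hn).inv_hom_id) _
    have h2 : (resX N n i hn).inv.hom ((resX N n i hn).hom.hom y) = y :=
      LinearMap.congr_fun (congrArg ModuleCat.Hom.hom (resX N n i hn).hom_inv_id) _
    change (resX N n i hn).inv.hom (((KK A n ⋙ Fr A).map (ModuleCat.ofHom (F k).subtype)).hom
      ((resX (ModuleCat.of A (F k)) n i hn).hom.hom ((resX (ModuleCat.of A (F k)) n i hn).inv.hom x))) = y
    rw [h1, hx, h2]

section

variable {N : ModuleCat.{u} A} {ι : Type u} [Nonempty ι] (F : ι → Submodule A N)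

/-- `Res` preserves directed unions. -/
noncomputable def isColimitRes (hd : Directed (· ≤ ·) F) (hs : (⨆ i, F i) = ⊤) :
    IsColimit ((Res A).mapCocone (ucc F)) :=
  isColimitOfEval _ _ (fun i => isColimitOfJS F hd hs (Res A ⋙ eval _ _ i) (pinj_res i) (js_res i))

/-- jointly surjectivity of `H^j(K ⊗ Res -)` on directed unions -/
theorem union_surj (hd : Directed (· ≤ ·) F) (hs : (⨆ i, F i) = ⊤) (K : CM A) (j : ℤ)
    (y : (tens K ((Res A).obj N)).homology j) :
    ∃ (i : ι) (x : (tens K ((Res A).obj (ModuleCat.of A (F i)))).homology j),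
      (homologyMap (((TR A).map₂CochainComplex.obj K).map ((Res A).map (ModuleCat.ofHom (F i).subtype))) j).hom x
        = y := by
  have := isFiltered_uidx F hd
  have h1 := preservesColimitsOfShape_obj (TR A) (UIdx F) K
  have h2 : HasExactColimitsOfShape (UIdx F) (ModuleCat.{u} A) := inferInstance
  let G := ((TR A).map₂CochainComplex.obj K) ⋙ homologyFunctor (ModuleCat.{u} A) (ComplexShape.up ℤ) j
  have hc : IsColimit (G.mapCocone ((Res A).mapCocone (ucc F))) := isColimitOfPreserves G (isColimitRes F hd hs)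
  obtain ⟨i, x, hx⟩ := Concrete.isColimit_exists_rep _ hc y
  exact ⟨i.val, x, hx⟩

end

end Groth.Agent.ResProp.EF.K926
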