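import Mathlib.Algebra.Category.ModuleCat.Projective
import Mathlib.Algebra.Category.ModuleCat.Abelian
import Mathlib.Algebra.Homology.Embedding.CochainComplex
import Mathlib.Algebra.Homology.Embedding.ExtendHomology
import Mathlib.Algebra.Homology.Additive
import Mathlib.Algebra.Homology.ShortComplex.ModuleCat
import Mathlib.LinearAlgebra.Finsupp.LinearCombination
import Mathlib.LinearAlgebra.FreeModule.Basic

/-!
# The functorial reduced free resolution of an `A`-module

`RF A M` : the free module on `M \ {0}` (reduced free module on the pointed set `M`), `br m` its canonical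
elements, `br 0 = 0`. `Fr A : ModuleCat A ⥤ ModuleCat A`, `Kr A M = ker (Fr M → M)`, `res₀ : ModuleCat A ⥤
ChainComplex (ModuleCat A) ℕ`.
-/

set_option autoImplicit false

universe u

namespace Groth.Agent.ResProp.EF.K926

open CategoryTheory Category Limits HomologicalComplex

variable (A : Type u) [CommRing A]

/-- reduced free module on the pointed set `M` -/
abbrev RF (M : Type u) [Zero M] : Type u := {m : M // m ≠ 0} →₀ A

section

variable {M N P : Type u}

open Classical in
/-- the canonical elements -/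
noncomputable def br [Zero M] (m : M) : RF A M := if h : m = 0 then 0 else Finsupp.single ⟨m, h⟩ 1

@[simp] lemma br_zero [Zero M] : br A (0 : M) = 0 := by simp [br]

lemma br_ne [Zero M] (m : {m : M // m ≠ 0}) : br A m.1 = Finsupp.single m 1 := by simp [br, m.2]

lemma rf_hom_ext [Zero M] [AddCommGroup P] [Module A P] {f g : RF A M →ₗ[A] P}
    (h : ∀ m : M, f (br A m) = g (br A m)) : f = g := by
  refine Finsupp.lhom_ext' (fun m => LinearMap.ext_ring ?_)
  have := h m.1
  rw [br_ne] at this
  exact this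

/-- the linear map given by a map of pointed sets -/
noncomputable def rlift [Zero M] [AddCommGroup P] [Module A P] (φ : M → P) : RF A M →ₗ[A] P :=
  Finsupp.linearCombination A (fun m : {m : M // m ≠ 0} => φ m.1)

lemma rlift_br [Zero M] [AddCommGroup P] [Module A P] (φ : M → P) (h0 : φ 0 = 0) (m : M) :
    rlift A φ (br A m) = φ m := by
  by_cases h : m = 0
  · subst h; simp [h0]
  · rw [show m = (⟨m, h⟩ : {m : M // m ≠ 0}).1 from rfl, br_ne]
    simp [rlift]

/-- functoriality -/
noncomputable def rmap [Zero M] [Zero N] (f : M → N) : RF A M →ₗ[A] RF A N := rlift A (fun m => br A (f m))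

lemma rmap_br [Zero M] [Zero N] (f : M → N) (h0 : f 0 = 0) (m : M) : rmap A f (br A m) = br A (f m) :=
  rlift_br A _ (by simp [h0]) m

/-- every element is a finite combination of canonical elements -/
lemma rf_induction [Zero M] {C : RF A M → Prop} (x : RF A M) (h0 : C 0)
    (hadd : ∀ x y, C x → C y → C (x + y)) (hs : ∀ (a : A) (m : M), C (a • br A m)) : C x := by
  induction x using Finsupp.induction_linear with
  | zero => exact h0
  | add x y hx hy => exact hadd x y hx hy
  | single m a =>
    have := hs a m.1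
    rw [br_ne] at this
    simpa using this

open Classical in
/-- retraction of `rmap f` for `f` injective -/
noncomputable def rretr [Zero M] [Zero N] (f : M → N) : RF A N →ₗ[A] RF A M :=
  rlift A (fun n => if h : ∃ m, f m = n then br A h.choose else 0)

lemma rretr_rmap [Zero M] [Zero N] (f : M → N) (h0 : f 0 = 0) (hf : Function.Injective f) (x : RF A M) :
    rretr A f (rmap A f x) = x := by
  classical
  have : rretr A f ∘ₗ rmap A f = LinearMap.id := by
    refine rf_hom_ext A (fun m => ?_)
    have h1 : ∀ m : M, (if h : ∃ m', f m' = f m then br A h.choose else 0 : RF A M) = br A m := by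
      intro m
      have h : ∃ m', f m' = f m := ⟨m, rfl⟩
      rw [dif_pos h, hf h.choose_spec]
    have h2 := rlift_br A (M := N) (fun n => (if h : ∃ m, f m = n then br A h.choose else 0 : RF A M))
      (by have := h1 0; rw [h0] at this; simpa using this) (f m)
    rw [LinearMap.comp_apply, rmap_br A f h0, LinearMap.id_apply]
    exact h2.trans (h1 m)
  exact LinearMap.congr_fun this x

lemma rmap_injective [Zero M] [Zero N] (f : M → N) (h0 : f 0 = 0) (hf : Function.Injective f) :
    Function.Injective (rmap A f) :=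
  Function.LeftInverse.injective (rretr_rmap A f h0 hf)

end

/-- the reduced free module functor -/
noncomputable def Fr : ModuleCat.{u} A ⥤ ModuleCat.{u} A where
  obj M := ModuleCat.of A (RF A M)
  map {M N} f := ModuleCat.ofHom (rmap A (fun m => f.hom m))
  map_id M := by
    ext1
    refine rf_hom_ext A (fun m => ?_)
    exact rmap_br A _ (map_zero _) m
  map_comp {M N P} f g := by
    ext1
    refine rf_hom_ext A (fun m => ?_)
    refine (rmap_br A _ (map_zero _) m).trans ?_
    change _ = rmap A (fun m => g.hom m) (rmap A (fun m => f.hom m) (br A m))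
    rw [rmap_br A _ (map_zero _), rmap_br A _ (map_zero _)]
    rfl

/-- the augmentation -/
noncomputable def prj : Fr A ⟶ 𝟭 _ where
  app M := ModuleCat.ofHom (rlift A (fun m : M => m))
  naturality {M N} f := by
    ext1
    refine rf_hom_ext A (fun m => ?_)
    change rlift A (fun m : N => m) (rmap A (fun m => f.hom m) (br A m)) = f.hom (rlift A (fun m : M => m) (br A m))
    rw [rmap_br A _ (map_zero _), rlift_br A _ rfl, rlift_br A _ rfl]

lemma prj_br (M : ModuleCat.{u} A) (m : M) : ((prj A).app M).hom (br A m) = m := rlift_br A _ rfl m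

lemma prj_surjective (M : ModuleCat.{u} A) : Function.Surjective ((prj A).app M).hom :=
  fun m => ⟨br A m, prj_br A M m⟩

/-- the kernel of the augmentation -/
noncomputable def Kr : ModuleCat.{u} A ⥤ ModuleCat.{u} A where
  obj M := ModuleCat.of A (LinearMap.ker ((prj A).app M).hom)
  map {M N} f := ModuleCat.ofHom (((Fr A).map f).hom.restrict (fun x hx => by
    have h1 : ((prj A).app N).hom (((Fr A).map f).hom x) = f.hom (((prj A).app M).hom x) :=
      congrArg (fun g => g.hom x) ((prj A).naturality f)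
    rw [LinearMap.mem_ker] at hx ⊢
    rw [h1, hx, map_zero]))
  map_id M := by
    ext x
    change ((Fr A).map (𝟙 M)).hom x.1 = x.1
    rw [CategoryTheory.Functor.map_id]
    rfl
  map_comp {M N P} f g := by
    ext x
    change ((Fr A).map (f ≫ g)).hom x.1 = ((Fr A).map g).hom (((Fr A).map f).hom x.1)
    rw [Functor.map_comp]
    rfl

/-- the inclusion of the kernel -/
noncomputable def inc : Kr A ⟶ Fr A where
  app M := ModuleCat.ofHom (LinearMap.ker ((prj A).app M).hom).subtype

lemma inc_injective (M : ModuleCat.{u} A) : Function.Injective ((inc A).app M).hom :=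
  Subtype.val_injective

lemma inc_prj (M : ModuleCat.{u} A) : (inc A).app M ≫ (prj A).app M = 0 := by
  ext x
  exact x.2

/-- the differential `Fr (Kr M) ⟶ Kr M ⊂ Fr M` -/
noncomputable def DD : Kr A ⋙ Fr A ⟶ Fr A where
  app M := (prj A).app ((Kr A).obj M) ≫ (inc A).app M
  naturality {M N} f := by
    have h1 := (prj A).naturality ((Kr A).map f)
    have h2 := (inc A).naturality f
    dsimp only [Functor.comp_map, Functor.id_map, Functor.comp_obj, Functor.id_obj] at h1 h2 ⊢
    rw [reassoc_of% h1, h2, Category.assoc]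

lemma DD_apply (M : ModuleCat.{u} A) (y : (Fr A).obj ((Kr A).obj M)) :
    ((DD A).app M).hom y = ((inc A).app M).hom (((prj A).app ((Kr A).obj M)).hom y) := rfl

lemma prj_inc_apply (M : ModuleCat.{u} A) (z : (Kr A).obj M) :
    ((prj A).app M).hom (((inc A).app M).hom z) = 0 := z.2

lemma DD_DD (M : ModuleCat.{u} A) : (DD A).app ((Kr A).obj M) ≫ (DD A).app M = 0 := by
  refine ModuleCat.hom_ext (LinearMap.ext fun x => ?_)
  refine (DD_apply A M (((DD A).app ((Kr A).obj M)).hom x)).trans ?_
  refine (congrArg ((inc A).app M).hom (prj_inc_apply A ((Kr A).obj M) _)).trans ?_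
  exact map_zero _

lemma DD_prj (M : ModuleCat.{u} A) : (DD A).app M ≫ (prj A).app M = 0 :=
  ModuleCat.hom_ext (LinearMap.ext fun _ => prj_inc_apply A M _)

/-- exactness of `Fr (Kr M) → Fr M → M` -/
lemma DD_exact (M : ModuleCat.{u} A) (x : (Fr A).obj M) (hx : ((prj A).app M).hom x = 0) :
    ∃ y : (Fr A).obj ((Kr A).obj M), ((DD A).app M).hom y = x := by
  obtain ⟨y, hy⟩ := prj_surjective A ((Kr A).obj M) (⟨x, hx⟩ : LinearMap.ker ((prj A).app M).hom)
  exact ⟨y, (DD_apply A M y).trans (congrArg ((inc A).app M).hom hy)⟩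

/-- `DD y = 0` implies `prj y = 0` -/
lemma prj_eq_zero_of_DD (M : ModuleCat.{u} A) (y : (Fr A).obj ((Kr A).obj M)) (hy : ((DD A).app M).hom y = 0) :
    ((prj A).app ((Kr A).obj M)).hom y = 0 := by
  apply inc_injective A M
  rw [map_zero]
  exact hy

/-- iterated kernels -/
noncomputable def KK : ℕ → (ModuleCat.{u} A ⥤ ModuleCat.{u} A)
  | 0 => 𝟭 _
  | n + 1 => KK n ⋙ Kr A

/-- the differentials of the resolution -/
noncomputable def dd (n : ℕ) : KK A (n + 1) ⋙ Fr A ⟶ KK A n ⋙ Fr A := Functor.whiskerLeft (KK A n) (DD A)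

lemma dd_app (n : ℕ) (M : ModuleCat.{u} A) : (dd A n).app M = (DD A).app ((KK A n).obj M) := rfl

/-- the functorial resolution, as a chain complex -/
noncomputable def resObj (M : ModuleCat.{u} A) : ChainComplex (ModuleCat.{u} A) ℕ :=
  ChainComplex.of (fun n => (KK A n ⋙ Fr A).obj M) (fun n => (dd A n).app M)
    (fun n => DD_DD A ((KK A n).obj M))

lemma resObj_d (M : ModuleCat.{u} A) (n : ℕ) : (resObj A M).d (n + 1) n = (dd A n).app M :=
  ChainComplex.of_d (fun n => (KK A n ⋙ Fr A).obj M) (fun n => (dd A n).app M) n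

/-- the functorial resolution, as a chain complex -/
noncomputable def res₀ : ModuleCat.{u} A ⥤ ChainComplex (ModuleCat.{u} A) ℕ where
  obj M := resObj A M
  map {M N} f := ChainComplex.ofHom (X := resObj A M) (Y := resObj A N) (fun n => (KK A n ⋙ Fr A).map f)
    (fun n => by rw [resObj_d, resObj_d]; exact (dd A n).naturality f)
  map_id M := by
    ext n : 1
    exact (KK A n ⋙ Fr A).map_id M
  map_comp f g := by
    ext n : 1
    exact (KK A n ⋙ Fr A).map_comp f g

lemma res₀_map_f {M N : ModuleCat.{u} A} (f : M ⟶ N) (n : ℕ) :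
    ((res₀ A).map f).f n = (KK A n ⋙ Fr A).map f := rfl

/-! ### freeness, injectivity, directed unions -/

instance (M : ModuleCat.{u} A) : Module.Free A ((Fr A).obj M) :=
  inferInstanceAs (Module.Free A ({m : M // m ≠ 0} →₀ A))

instance (M : ModuleCat.{u} A) : Projective ((Fr A).obj M) :=
  inferInstance

lemma Fr_map_injective {M N : ModuleCat.{u} A} (f : M ⟶ N) (hf : Function.Injective f.hom) :
    Function.Injective ((Fr A).map f).hom :=
  rmap_injective A _ (map_zero f.hom) hf

/-- `Fr` turns injective maps into split injections. -/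
lemma Fr_map_split {M N : ModuleCat.{u} A} (f : M ⟶ N) (hf : Function.Injective f.hom) :
    ∃ r : (Fr A).obj N ⟶ (Fr A).obj M, (Fr A).map f ≫ r = 𝟙 _ :=
  ⟨ModuleCat.ofHom (rretr A (fun m => f.hom m)), ModuleCat.hom_ext (LinearMap.ext fun x =>
    rretr_rmap A _ (map_zero f.hom) hf x)⟩

lemma Kr_map_val {M N : ModuleCat.{u} A} (f : M ⟶ N) (x : (Kr A).obj M) :
    ((inc A).app N).hom (((Kr A).map f).hom x) = ((Fr A).map f).hom (((inc A).app M).hom x) := rfl

lemma Kr_map_injective {M N : ModuleCat.{u} A} (f : M ⟶ N) (hf : Function.Injective f.hom) :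
    Function.Injective ((Kr A).map f).hom := by
  intro x y h
  apply inc_injective A M
  apply Fr_map_injective A f hf
  rw [← Kr_map_val, ← Kr_map_val, h]

/-- preserves injections -/
def PInj (Φ : ModuleCat.{u} A ⥤ ModuleCat.{u} A) : Prop :=
  ∀ {M N : ModuleCat.{u} A} (f : M ⟶ N), Function.Injective f.hom → Function.Injective (Φ.map f).hom

/-- jointly surjective on directed unions -/
def JS (Φ : ModuleCat.{u} A ⥤ ModuleCat.{u} A) : Prop :=
  ∀ (N : ModuleCat.{u} A) (ι : Type u) [Nonempty ι] (F : ι → Submodule A N), Directed (· ≤ ·) F →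
    (⨆ i, F i) = ⊤ → ∀ y : Φ.obj N, ∃ (i : ι) (x : Φ.obj (ModuleCat.of A (F i))),
      (Φ.map (ModuleCat.ofHom (F i).subtype)).hom x = y

lemma pinj_id : PInj A (𝟭 _) := fun _ hf => hf

lemma pinj_Fr {Φ : ModuleCat.{u} A ⥤ ModuleCat.{u} A} (h : PInj A Φ) : PInj A (Φ ⋙ Fr A) :=
  fun f hf => Fr_map_injective A (Φ.map f) (h f hf)

lemma pinj_Kr {Φ : ModuleCat.{u} A ⥤ ModuleCat.{u} A} (h : PInj A Φ) : PInj A (Φ ⋙ Kr A) :=
  fun f hf => Kr_map_injective A (Φ.map f) (h f hf)

lemma js_id : JS A (𝟭 _) := by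
  intro N ι _ F hd hs y
  have hy : (y : N) ∈ ⨆ i, F i := by rw [hs]; trivial
  obtain ⟨i, hi⟩ := (Submodule.mem_iSup_of_directed F hd).1 hy
  exact ⟨i, (⟨y, hi⟩ : F i), rfl⟩

lemma js_Fr {Φ : ModuleCat.{u} A ⥤ ModuleCat.{u} A} (h : JS A Φ) : JS A (Φ ⋙ Fr A) := by
  intro N ι _ F hd hs y
  refine rf_induction A (C := fun y : (Φ ⋙ Fr A).obj N => ∃ (i : ι) (x : (Φ ⋙ Fr A).obj (ModuleCat.of A (F i))),
      ((Φ ⋙ Fr A).map (ModuleCat.ofHom (F i).subtype)).hom x = y) y ?_ ?_ ?_
  · exact ⟨Classical.arbitrary ι, 0, map_zero _⟩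
  · rintro _ _ ⟨i, x, rfl⟩ ⟨j, x', rfl⟩
    obtain ⟨k, hik, hjk⟩ := hd i j
    have e1 : (ModuleCat.ofHom (F i).subtype : ModuleCat.of A (F i) ⟶ N) =
      ModuleCat.ofHom (Submodule.inclusion hik) ≫ ModuleCat.ofHom (F k).subtype := rfl
    have e2 : (ModuleCat.ofHom (F j).subtype : ModuleCat.of A (F j) ⟶ N) =
      ModuleCat.ofHom (Submodule.inclusion hjk) ≫ ModuleCat.ofHom (F k).subtype := rfl
    refine ⟨k, ((Φ ⋙ Fr A).map (ModuleCat.ofHom (Submodule.inclusion hik))).hom x +
      ((Φ ⋙ Fr A).map (ModuleCat.ofHom (Submodule.inclusion hjk))).hom x', ?_⟩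
    rw [map_add, e1, e2, Functor.map_comp, Functor.map_comp]
    rfl
  · intro a m
    obtain ⟨i, x, hx⟩ := h N ι F hd hs m
    refine ⟨i, a • br A x, ?_⟩
    refine (LinearMap.map_smul (rmap A fun z => (Φ.map (ModuleCat.ofHom (F i).subtype)).hom z) a (br A x)).trans ?_
    rw [rmap_br A _ (map_zero _) x, hx]

lemma js_Kr {Φ : ModuleCat.{u} A ⥤ ModuleCat.{u} A} (h : JS A Φ) (h' : PInj A Φ) : JS A (Φ ⋙ Kr A) := by
  intro N ι _ F hd hs y
  obtain ⟨i, x, hx⟩ := js_Fr A h N ι F hd hs (((inc A).app (Φ.obj N)).hom y)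
  have h0 : ((prj A).app (Φ.obj (ModuleCat.of A (F i)))).hom x = 0 := by
    apply h' (ModuleCat.ofHom (F i).subtype) Subtype.val_injective
    rw [map_zero]
    have h1 : ((prj A).app (Φ.obj N)).hom (((Fr A).map (Φ.map (ModuleCat.ofHom (F i).subtype))).hom x) =
      (Φ.map (ModuleCat.ofHom (F i).subtype)).hom (((prj A).app (Φ.obj (ModuleCat.of A (F i)))).hom x) :=
      congrArg (fun g => g.hom x) ((prj A).naturality (Φ.map (ModuleCat.ofHom (F i).subtype)))
    rw [← h1]
    refine (congrArg ((prj A).app (Φ.obj N)).hom hx).trans ?_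
    exact prj_inc_apply A _ y
  refine ⟨i, (⟨x, h0⟩ : LinearMap.ker ((prj A).app (Φ.obj (ModuleCat.of A (F i)))).hom), ?_⟩
  apply inc_injective A (Φ.obj N)
  exact hx

lemma pinj_KK (n : ℕ) : PInj A (KK A n) := by
  induction n with
  | zero => exact pinj_id A
  | succ n hn => exact pinj_Kr A hn

lemma js_KK (n : ℕ) : JS A (KK A n) := by
  induction n with
  | zero => exact js_id A
  | succ n hn => exact js_Kr A hn (pinj_KK A n)

lemma pinj_KKFr (n : ℕ) : PInj A (KK A n ⋙ Fr A) := pinj_Fr A (pinj_KK A n)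

lemma js_KKFr (n : ℕ) : JS A (KK A n ⋙ Fr A) := js_Fr A (js_KK A n)

/-! ### exactness -/

lemma res₀_exactAt (M : ModuleCat.{u} A) (n : ℕ) : ((res₀ A).obj M).ExactAt (n + 1) := by
  rw [HomologicalComplex.exactAt_iff' _ (n + 2) (n + 1) n (by simp) (by simp)]
  rw [ShortComplex.moduleCat_exact_iff]
  intro x hx
  have hx' : ((dd A n).app M).hom x = 0 := by
    have := resObj_d A M n
    have h2 : ((resObj A M).d (n + 1) n).hom x = 0 := hx
    rw [this] at h2
    exact h2
  have h1 := prj_eq_zero_of_DD A ((KK A n).obj M) x hx'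
  obtain ⟨y, hy⟩ := DD_exact A ((KK A (n + 1)).obj M) x h1
  refine ⟨y, ?_⟩
  change ((resObj A M).d (n + 2) (n + 1)).hom y = x
  rw [resObj_d]
  exact hy

end Groth.Agent.ResProp.EF.K926
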